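import Groth.Agent.GrpFieldLib.QAffHom

/-! A homomorphism of group schemes over a field with affine kernel is affine. -/

set_option autoImplicit false
set_option backward.isDefEq.respectTransparency false
set_option linter.style.haveILetI false

universe u

open CategoryTheory CategoryTheory.Limits MonoidalCategory CartesianMonoidalCategory AlgebraicGeometry MonObj
open Groth.Agent.GrpFieldLib.QAff

namespace Groth.Agent.GrpAmple

variable {k : Type u} [Field k] {G Q X : Over (Spec (.of k))} [GrpObj G] [GrpObj Q]
variable [LocallyOfFiniteType G.hom] [LocallyOfFiniteType Q.hom]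

/-- A quasi-compact homomorphism with affine kernel is affine. -/
theorem isAffineHom_of_affine_kernel (f : G ⟶ Q) [IsMonHom f] [QuasiCompact f.left] {N : Over (Spec (.of k))}
    [GrpObj N] (i : N ⟶ G) [IsMonHom i] [IsClosedImmersion i.left] (hnorm : AlgGrp.IsNormalHom i)
    (hk : AlgGrp.IsKernel i f) [IsAffine N.left] :
    IsAffineHom f.left := by
  haveI := GrpSchLib.AntiAffine.isSeparated_grp Q
  haveI : LocallyOfFiniteType N.hom := by rw [← Over.w i]; infer_instance
  haveI : Mono i := Over.mono_of_mono_left i
  haveI : QuasiCompact N.hom := (quasiCompact_iff_compactSpace N.hom).2 inferInstance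
  obtain ⟨X, hXg, q, hq, hq1, hq2, hq3, hXft, hc, hkq⟩ := GrpQuotLib.exists_quotientGrp i hnorm
  letI := hXg; haveI := hq; haveI := hq1; haveI := hq2; haveI := hq3; haveI := hXft
  obtain ⟨hqc, hqaff⟩ := isAffineHom_quot i q hkq
  have hcov : FpqcDescLib.Covers q.left :=
    FpqcDescLib.covers_of_isCovering (FpqcDescLib.isCovering_of_lfp q.left)
  obtain ⟨m, hm, -⟩ := hcov.over_desc f fun T a b e => by
    obtain ⟨h, rfl⟩ := (hc T a b).1 e
    rw [MonObj.mul_comp, Category.assoc, hk.w, ← Category.assoc, comp_toUnit]
    exact (_root_.mul_one (a ≫ f)).symm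
  haveI : Epi q := hcov.over_epi
  haveI : IsMonHom m := by
    refine ⟨?_, ?_⟩
    · rw [← IsMonHom.one_hom q, Category.assoc, hm, IsMonHom.one_hom f]
    · haveI : Epi (q ▷ G) := (FpqcDescLib.covers_whiskerRight hcov G).over_epi
      haveI : Epi (X ◁ q) := (FpqcDescLib.covers_whiskerLeft hcov X).over_epi
      haveI : Epi (q ⊗ₘ q) := by
        rw [show q ⊗ₘ q = q ▷ G ≫ X ◁ q by ext <;> simp]
        infer_instance
      rw [← cancel_epi (q ⊗ₘ q), ← Category.assoc, ← IsMonHom.mul_hom q, Category.assoc, hm,
        IsMonHom.mul_hom f, tensorHom_comp_tensorHom_assoc, hm]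
  haveI : Mono m := by
    have h1 : ∀ {T : Over (Spec (.of k))} (x : T ⟶ X), x ≫ m = 1 → x = 1 := fun {T} x hx => by
      have hu := hcov.over_pullback x (pullback.fst x q) (pullback.snd x q) (IsPullback.of_hasPullback x q)
      haveI : Epi (pullback.fst x q) := hu.over_epi
      have hg : pullback.snd x q ≫ f = 1 := by
        rw [← hm, ← pullback.condition_assoc, hx, MonObj.comp_one]
      let n := hk.lift (pullback.snd x q) (toUnit _) hg
      have hn : n ≫ i = pullback.snd x q := hk.lift_fst _ _ _
      have hiq : i ≫ q = 1 := hkq.w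
      rw [← cancel_epi (pullback.fst x q), pullback.condition, MonObj.comp_one, ← hn, Category.assoc,
        hiq, MonObj.comp_one]
    refine ⟨fun a b e => ?_⟩
    have := h1 (a * b⁻¹) (by rw [MonObj.mul_comp, GrpObj.inv_comp, e, mul_inv_cancel])
    exact mul_inv_eq_one.1 this
  haveI : QuasiCompact m.left := by
    haveI : QuasiCompact (q.left ≫ m.left) := by rw [← Over.comp_left, hm]; infer_instance
    exact AlgSpLib.quasiCompact_of_comp_surjective q.left m.left
  haveI : IsClosedImmersion m.left := S3036.result k X Q m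
  rw [← hm, Over.comp_left]
  haveI := hqaff
  infer_instance

end Groth.Agent.GrpAmple
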