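import Groth.Agent.Chevalley.BC.AnyField
import Groth.Agent.FrobQuot.Main
import Groth.Agent.Lib.AVProj
import Groth.Agent.Lib.AVDual
import Groth.Agent.GrpAmple.AffineKernel
import Groth.Agent.SGA1Q.QuotNorm
import Groth.Agent.NormX.FinFlat
import Groth.Agent.NormX.NormalAmple
import Groth.Agent.S3023
import Groth.Agent.RGLib.TorsorSeq

/-!
# Group schemes of finite type over a field are quasi-projective
-/

set_option autoImplicit false
set_option linter.style.haveILetI false
set_option backward.isDefEq.respectTransparency false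
set_option backward.isDefEq.respectTransparency.types false

universe u

open CategoryTheory CategoryTheory.Limits MonoidalCategory CartesianMonoidalCategory MonObj AlgebraicGeometry

noncomputable section

namespace Groth.Agent.GrpAmple

variable {k : Type u} [Field k]

/-- Smooth connected case: pull back from the proper quotient. -/
theorem exists_isAmple_of_smooth (G : Over (Spec (CommRingCat.of k))) [GrpObj G] [Smooth G.hom]
    [QuasiCompact G.hom] [ConnectedSpace G.left] : ∃ L : G.left.Modules, CohB1.IsAmple L := by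
  obtain ⟨N, strN, l, A, strA, q, hl, hlc, hln, hN, hq, hqs, hqf, hker, hA, hAs, hAc⟩ :=
    Chevalley.BC.exists_affine_quot G
  haveI := hl; haveI := hlc; haveI := hN; haveI := hq; haveI := hA; haveI := hAs; haveI := hAc
  haveI := GrpSchLib.AntiAffine.isSeparated_grp A
  haveI : QuasiCompact (q.left ≫ A.hom) := by rw [Over.w q]; infer_instance
  haveI : QuasiCompact q.left := QuasiCompact.of_comp q.left A.hom
  haveI : IsAffineHom q.left := isAffineHom_of_affine_kernel q l hln hker
  haveI : GeometricallyConnected A.hom :=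
    H23.GeomConn.of_point k A.hom η[A].left (Over.w η[A])
  haveI : GeometricallyIntegral A.hom := AVDual.geometricallyIntegral_of_smooth A
  obtain ⟨L, hL⟩ := AVProj.exists_isAmple (X := A)
  exact ⟨_, NormX.isAmple_pullback_affine q.left hL⟩

theorem surjective_of_exact {H G Q : Over (Spec (CommRingCat.of k))} [GrpObj H] [GrpObj G] [GrpObj Q]
    {i : H ⟶ G} {v : G ⟶ Q} (hex : NonAbH1.IsExactSeq Scheme.fppfPrecoverage i v) : Surjective v.left := by
  refine ⟨fun y => ?_⟩
  obtain ⟨R, hR, hsec⟩ := hex.2.2.2.2
  obtain ⟨W, f, hf, w, hw⟩ : ∃ (W : Scheme.{u}) (f : W ⟶ Q.left), R f ∧ y ∈ Set.range f := by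
    obtain ⟨W, f, hf, w, hw⟩ := (Presieve.mem_comap_jointlySurjectivePrecoverage_iff Scheme.forget).1 hR.1 y
    exact ⟨W, f, hf, w, hw⟩
  obtain ⟨s, hs⟩ := hsec f hf
  exact ⟨s w, by rw [← hw, ← hs]; rfl⟩

/-- Connected case: pull back from a smooth quotient by a finite subgroup. -/
theorem exists_isAmple_of_connected (G : Over (Spec (CommRingCat.of k))) [GrpObj G] [LocallyOfFiniteType G.hom]
    [QuasiCompact G.hom] [ConnectedSpace G.left] : ∃ L : G.left.Modules, CohB1.IsAmple L := by
  obtain ⟨H, Q, strH, strQ, i, v, hfin, -, hsm, hi, hex⟩ := FrobQuot.main G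
  haveI := hex.1; haveI := hex.2.1; haveI := hfin; haveI := hsm; haveI := hi
  haveI := GrpSchLib.AntiAffine.isSeparated_grp Q
  haveI := GrpSchLib.AntiAffine.isSeparated_grp G
  haveI : QuasiCompact (v.left ≫ Q.hom) := by rw [Over.w v]; infer_instance
  haveI : QuasiCompact v.left := QuasiCompact.of_comp v.left Q.hom
  haveI := surjective_of_exact hex
  haveI : ConnectedSpace Q.left := v.left.surjective.connectedSpace v.left.continuous
  haveI : CompactSpace G.left := QuasiCompact.compactSpace_of_compactSpace G.hom
  haveI : CompactSpace Q.left := v.left.surjective.compactSpace v.left.continuous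
  haveI : QuasiCompact Q.hom := (quasiCompact_iff_compactSpace Q.hom).2 inferInstance
  obtain ⟨N, strN, j, hj, hjc, hjn, hk⟩ := GrpSchLib.exists_kernel v
  haveI := hj; haveI := hjc
  haveI : IsAffineHom H.hom := inferInstance
  haveI : IsAffine H.left := isAffine_of_isAffineHom H.hom
  obtain ⟨g, hg⟩ := RGLib.TorsorSeq.exists_of_comp_eq_one hex j (hk.w.trans (Hom.one_def).symm)
  haveI : IsClosedImmersion (g.left ≫ i.left) := by rw [← Over.comp_left, hg]; infer_instance
  haveI : IsClosedImmersion g.left := IsClosedImmersion.of_comp g.left i.left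
  haveI : IsAffine N.left := isAffine_of_isAffineHom g.left
  haveI : IsAffineHom v.left := isAffineHom_of_affine_kernel v j hjn hk
  obtain ⟨L, hL⟩ := exists_isAmple_of_smooth Q
  exact ⟨_, NormX.isAmple_pullback_affine v.left hL⟩

/-- A group scheme of finite type over a field has an ample invertible module. -/
theorem exists_isAmple (G : Over (Spec (CommRingCat.of k))) [GrpObj G] [LocallyOfFiniteType G.hom]
    [QuasiCompact G.hom] : ∃ L : G.left.Modules, CohB1.IsAmple L := by
  classical
  haveI := GrpSchLib.AntiAffine.isSeparated_grp G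
  haveI : CompactSpace G.left := QuasiCompact.compactSpace_of_compactSpace G.hom
  haveI : IsLocallyNoetherian G.left := LocallyOfFiniteType.isLocallyNoetherian G.hom
  haveI : IsNoetherian G.left := ⟨⟩
  haveI : JacobsonSpace G.left := LocallyOfFiniteType.jacobsonSpace G.hom
  -- the neutral component
  obtain ⟨G₀, strG₀, j, hj, hjc, hjf, hjr⟩ := S3023.result k G
  haveI := hj; haveI := hjc; haveI := hjf
  haveI : LocallyOfFiniteType G₀.hom := by rw [← Over.w j]; infer_instance
  haveI : QuasiCompact G₀.hom := by rw [← Over.w j]; infer_instance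
  let pt : ↥(Spec (CommRingCat.of k)) := IsLocalRing.closedPoint k
  haveI : ConnectedSpace G₀.left := by
    have h : _root_.IsPreconnected (Set.range j.left) := by
      rw [show Set.range j.left = connectedComponent (η[G].left pt) from hjr pt]
      exact isPreconnected_connectedComponent
    rw [← Set.image_univ, j.left.isClosedEmbedding.isEmbedding.isInducing.isPreconnected_image] at h
    exact { isPreconnected_univ := h, toNonempty := ⟨η[G₀].left pt⟩ }
  obtain ⟨L, hL⟩ := exists_isAmple_of_connected G₀
  -- a finite set of closed points meeting every irreducible component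
  have hfin : (irreducibleComponents G.left).Finite := TopologicalSpace.NoetherianSpace.finite_irreducibleComponents
  have hpick : ∀ C : irreducibleComponents G.left, ∃ z : G.left, z ∈ C.1 ∧ IsClosed ({z} : Set G.left) := by
    rintro ⟨C, hC⟩
    obtain ⟨z, hzC, hz⟩ := nonempty_inter_closedPoints hC.1.nonempty (isClosed_of_mem_irreducibleComponents C hC).isLocallyClosed
    exact ⟨z, hzC, hz⟩
  choose z hzC hz using hpick
  haveI := hfin.to_subtype
  let Z : TopologicalSpace.Closeds G.left :=
    ⟨Set.range z, by rw [← Set.biUnion_of_singleton (Set.range z)]; exact (Set.finite_range z).isClosed_biUnion fun x ⟨C, hC⟩ => hC ▸ hz C⟩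
  let J := Scheme.IdealSheafData.vanishingIdeal Z
  let Pt : Over (Spec (CommRingCat.of k)) := Over.mk (J.subschemeι ≫ G.hom)
  let c : Pt ⟶ G := Over.homMk J.subschemeι rfl
  have hrange : Set.range J.subschemeι = Set.range z := H23.RedSub.range_vanishingIdeal Z
  haveI : Finite J.subscheme := by
    have : Finite (Set.range J.subschemeι) := by rw [hrange]; exact (Set.finite_range z).to_subtype
    exact Finite.of_injective (β := Set.range J.subschemeι) (fun a => ⟨J.subschemeι a, a, rfl⟩) fun a b h =>
      (Scheme.Hom.isClosedEmbedding J.subschemeι).injective (congrArg Subtype.val h : _)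
  haveI : LocallyOfFiniteType Pt.hom := inferInstanceAs (LocallyOfFiniteType (J.subschemeι ≫ G.hom))
  haveI : QuasiCompact Pt.hom := inferInstanceAs (QuasiCompact (J.subschemeι ≫ G.hom))
  haveI : LocallyQuasiFinite Pt.hom := LocallyQuasiFinite.of_finite_preimage_singleton _ fun _ =>
    haveI : Finite ↥Pt.left := inferInstanceAs (Finite J.subscheme)
    Set.toFinite _
  haveI : IsFinite Pt.hom := IsFinite.of_locallyQuasiFinite Pt.hom
  -- the translation map
  let sh : G ⊗ Pt ≅ G ⊗ Pt :=
    { hom := lift (fst G Pt * (snd G Pt ≫ c)) (snd G Pt)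
      inv := lift (fst G Pt * (snd G Pt ≫ c)⁻¹) (snd G Pt)
      hom_inv_id := by
        refine CartesianMonoidalCategory.hom_ext _ _ ?_ (by simp)
        rw [Category.assoc, lift_fst, Category.id_comp, MonObj.comp_mul, lift_fst, GrpObj.comp_inv,
          lift_snd_assoc, mul_inv_cancel_right]
      inv_hom_id := by
        refine CartesianMonoidalCategory.hom_ext _ _ ?_ (by simp)
        rw [Category.assoc, lift_fst, Category.id_comp, MonObj.comp_mul, lift_fst, lift_snd_assoc,
          inv_mul_cancel_right] }
  let f : G₀ ⊗ Pt ⟶ G := (j ▷ Pt) ≫ sh.hom ≫ fst G Pt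
  haveI : Flat Pt.hom := inferInstance
  haveI : LocallyOfFinitePresentation Pt.hom := inferInstance
  haveI : IsFinite (fst G Pt).left := inferInstanceAs (IsFinite (pullback.fst G.hom Pt.hom))
  haveI : Flat (fst G Pt).left := inferInstanceAs (Flat (pullback.fst G.hom Pt.hom))
  haveI : LocallyOfFinitePresentation (fst G Pt).left :=
    inferInstanceAs (LocallyOfFinitePresentation (pullback.fst G.hom Pt.hom))
  haveI : IsIso sh.hom.left := ((Over.forget _).mapIso sh).isIso_hom
  have hpb : IsPullback (fst G₀ Pt).left (j ▷ Pt).left j.left (fst G Pt).left := by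
    refine IsPullback.of_bot ?_ ?_ (IsPullback.of_hasPullback G.hom Pt.hom)
    · have h : (j ▷ Pt).left ≫ pullback.snd G.hom Pt.hom = (snd G₀ Pt).left := by
        show ((j ▷ Pt) ≫ snd G Pt).left = _
        rw [whiskerRight_snd]
      rw [h, Over.w j]
      exact IsPullback.of_hasPullback G₀.hom Pt.hom
    · rw [← Over.comp_left, ← Over.comp_left, whiskerRight_fst]
  haveI : IsFinite (j ▷ Pt).left := MorphismProperty.of_isPullback (P := @IsFinite) hpb inferInstance
  haveI : Flat (j ▷ Pt).left := MorphismProperty.of_isPullback (P := @Flat) hpb inferInstance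
  haveI : LocallyOfFinitePresentation j.left := inferInstance
  haveI : LocallyOfFinitePresentation (j ▷ Pt).left :=
    MorphismProperty.of_isPullback (P := @LocallyOfFinitePresentation) hpb inferInstance
  haveI : IsFinite f.left := inferInstanceAs (IsFinite ((j ▷ Pt).left ≫ sh.hom.left ≫ (fst G Pt).left))
  haveI : Flat f.left := inferInstanceAs (Flat ((j ▷ Pt).left ≫ sh.hom.left ≫ (fst G Pt).left))
  haveI : LocallyOfFinitePresentation f.left :=
    inferInstanceAs (LocallyOfFinitePresentation ((j ▷ Pt).left ≫ sh.hom.left ≫ (fst G Pt).left))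
  -- it is surjective
  have hsec : lift (toUnit Pt ≫ η[G₀]) (𝟙 Pt) ≫ f = c := by
    simp only [f, sh]
    rw [lift_whiskerRight_assoc, lift_fst, MonObj.comp_mul, lift_fst, lift_snd_assoc, Category.id_comp,
      Category.assoc, IsMonHom.one_hom, ← Hom.one_def, _root_.one_mul]
  have hclopen : IsClopen (Set.range f.left) :=
    ⟨f.left.isClosedMap.isClosed_range, f.left.isOpenMap.isOpen_range⟩
  haveI : Surjective f.left := ⟨fun x => by
    obtain ⟨C, hC, hxC⟩ : ∃ C ∈ irreducibleComponents G.left, x ∈ C :=
      ⟨irreducibleComponent x, irreducibleComponent_mem_irreducibleComponents x, mem_irreducibleComponent⟩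
    have hzr : z ⟨C, hC⟩ ∈ Set.range f.left := by
      obtain ⟨w, hw⟩ : z ⟨C, hC⟩ ∈ Set.range J.subschemeι := hrange ▸ Set.mem_range_self _
      refine ⟨(lift (toUnit Pt ≫ η[G₀]) (𝟙 Pt)).left w, ?_⟩
      rw [← Scheme.Hom.comp_apply, ← Over.comp_left, hsec]
      exact hw
    exact hC.1.2.isPreconnected.subset_isClopen hclopen ⟨_, hzC ⟨C, hC⟩, hzr⟩ hxC⟩
  -- descend ampleness along it
  haveI : IsAffineHom (fst G₀ Pt).left := inferInstanceAs (IsAffineHom (pullback.fst G₀.hom Pt.hom))
  have hL' := NormX.isAmple_pullback_affine (fst G₀ Pt).left hL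
  obtain ⟨N⟩ : Nonempty (NormX.WNorm f.left) := NormX.exists_wnorm fun y => by
    obtain ⟨W, hyW, hW, F, hF⟩ := NormX.exists_frame_finrank f.left y
    exact ⟨W, hyW, hW, _, F, hF⟩
  haveI : QuasiCompact (f.left ≫ G.hom) := inferInstance
  obtain ⟨M, -, hM⟩ := NormX.exists_isRelAmple_of_wnorm G.hom f.left N
    ((AmpleX.isRelAmple_iff_isAmple (f.left ≫ G.hom) _).2 hL')
  exact ⟨M, (AmpleX.isRelAmple_iff_isAmple G.hom M).1 hM⟩

end Groth.Agent.GrpAmple
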